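import Groth.Agent.Lib.BCPerf20.Reduce
import Groth.Agent.Lib.RpushPerf25.Bound
import Groth.Agent.Lib.KSix19.AmpLocal
import Groth.Agent.Lib.SiteDer.PushCoh
import Groth.Agent.Lib.OX.SingleDegree
import Groth.Agent.S1073

/-! # Perfect direct images concentrated in degree zero are locally free -/

set_option autoImplicit false
set_option maxHeartbeats 1000000
set_option linter.style.haveILetI false
set_option backward.isDefEq.respectTransparency false
universe u

open CategoryTheory CategoryTheory.Limits AlgebraicGeometry HomologicalComplex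

attribute [local instance] HasDerivedCategory.standard

noncomputable section

namespace GrothLib.RpushLocFree20

open GrothLib.OX GrothLib.RelAmp22

variable {X S : Scheme.{u}}

/-- A perfect direct image of a relatively flat module with no higher cohomology is locally free. -/
theorem isFinLocFree_of_qc [CompactSpace S] [QuasiSeparatedSpace S] (f : X ⟶ S) [QuasiCompact f] [QuasiSeparated f]
    (F : X.Modules) (hq : Coh.IsQCoh F) (hflat : FlatMod.IsFlatOver f F)
    (hp : DCoh.IsPerfect ((RR f).obj (DCoh.inD X F)))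
    (hvan : ∀ i : ℤ, 0 < i → IsZero (DCoh.HD ((RR f).obj (DCoh.inD X F)) i)) :
    FlatMod.IsFinLocFree (DCoh.HD ((RR f).obj (DCoh.inD X F)) 0) := by
  haveI : DCoh.HasRpush f := KInj.hasRightDerivedFunctor _
  let S0 := (HomologicalComplex.single X.Modules (ComplexShape.up ℤ) 0).obj F
  let eS : DerivedCategory.Q.obj S0 ≅ DCoh.inD X F :=
    ((DerivedCategory.singleFunctorIsoCompQ X.Modules 0).app F).symm
  haveI : (DCoh.inD X F).IsLE 0 := inferInstanceAs (((DerivedCategory.singleFunctor X.Modules 0).obj F).IsLE 0)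
  haveI : (DCoh.toD X S0).IsLE 0 := DerivedCategory.TStructure.t.isLE_of_iso eS.symm 0
  obtain ⟨P, c, hPb, hfl, ⟨e⟩⟩ := GrothLib.KSix19.exists_flat_rep S0 0
  let eP : DerivedCategory.Q.obj P ≅ DCoh.inD X F := e ≪≫ eS
  have hS0 : DCoh.VanishesOutside S0 0 0 := fun i hi =>
    HomologicalComplex.isZero_single_obj_X _ _ _ _ (by omega)
  have hfl0 : ∀ i, FlatMod.IsFlatOver f (S0.X i) := fun i x => by
    by_cases hi : i = 0
    · subst hi
      refine (flatOver_iff_relStalk f _ x).2 (flat_of_modIso ((relStalk f x).mapIso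
        (HomologicalComplex.singleObjXSelf (ComplexShape.up ℤ) 0 F).symm) ((flatOver_iff_relStalk f F x).1 (hflat x)))
    · refine (flatOver_iff_relStalk f _ x).2 ?_
      haveI := ModuleCat.isZero_iff_subsingleton.1 ((relStalk f x).map_isZero (hS0 i (by omega)))
      infer_instance
  obtain ⟨b', hb0, hb'⟩ := RpushPerf25.exists_bound_ltensor f P hPb hfl
    (fun i => isQCoh_of_iso ((DerivedCategory.homologyFunctor _ i).mapIso eP.symm)
      (DerTrunc.cohIn_single (qcohP X) hq 0 i))
    (a := 0) (b := 0) (fun x => ampAt_of_iso f eP.symm (ampAt_of_relFlat f ⟨S0, hS0, hfl0, ⟨eS⟩⟩ x))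
  let E := (RR f).obj (DCoh.inD X F)
  let eK : (DCoh.Rpush f).obj (DerivedCategory.Q.obj P) ≅ E :=
    (DCoh.Rpush f).mapIso eP ≪≫ (rpushIsoRres f).app _
  have hEq : DCoh.IsQCohD E := isQCohD_of_isPerfect hp
  have ht : DCoh.HasTorAmplitudeIn 0 b' E :=
    (Groth.Agent.S1073.result S E hEq 0 b' hb0).2 fun G hG _ i hi =>
      (hb' G hG i hi).of_iso ((DerivedCategory.homologyFunctor _ i).mapIso ((DCoh.LTensorMod G).mapIso eK.symm))
  have hloc := KSix19.hasPerfectAmplitudeIn_iff.1 (KSix19.perfectAmplitude_of_flatAmplitude hb0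
    (hasFlatAmplitudeIn_of_tor (fun G => hasLTensorMod G) hb0 ht) (isPseudoCoherentD_of_isPerfect hp _))
  refine isFinLocFree_of_local fun s => ?_
  obtain ⟨U, j, hj, ⟨y, rfl⟩, L, hL, hLf, ⟨eL⟩⟩ := hloc s
  have hLex : ∀ i, 0 < i → L.ExactAt i := fun i hi => by
    rw [exactAt_iff_isZero_homology]
    exact (((Scheme.Modules.restrictFunctor j).map_isZero (hvan i hi)).of_iso (HDResIso j E i)).of_iso
      ((hdIso L i).symm ≪≫ (DerivedCategory.homologyFunctor _ i).mapIso eL)
  obtain ⟨L', hL', hLf', ⟨eL'⟩⟩ := KSix19.strictIn_of_strictlyPerfect (le_refl (0 : ℤ))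
    ⟨⟨0, b', hL⟩, hLf⟩ (fun i hi => hL i (Or.inl hi)) hLex
  let M := DCoh.HD E 0
  have hloc' : FlatMod.IsFinLocFree ((Scheme.Modules.restrictFunctor j).obj M) := by
    let T := ShortComplex.mk (L'.d (-1) 0) (L'.d 0 1) (L'.d_comp_d _ _ _)
    have hz1 : L'.d (-1) 0 = 0 := (hL' (-1) (Or.inl (by omega))).eq_of_src _ _
    have hz2 : L'.d 0 1 = 0 := (hL' 1 (Or.inr (by omega))).eq_of_tgt _ _
    let e0 : L'.homology 0 ≅ L'.X 0 :=
      (L'.homologyIsoSc' (-1) 0 1 (by simp) (by simp)) ≪≫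
        (ShortComplex.HomologyData.ofZeros T hz1 hz2).left.homologyIso
    exact DCoh.isFinLocFree_of_iso (e0.symm ≪≫ (hdIso L' 0).symm ≪≫
      (DerivedCategory.homologyFunctor _ 0).mapIso (eL' ≪≫ eL) ≪≫ HDResIso j E 0) (hLf' 0)
  exact ⟨U, j, hj, ⟨y, rfl⟩, hloc'⟩

end GrothLib.RpushLocFree20
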